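import Mathlib

/-!
# S4547: 2-parts of the orders of the unitary groups (helper311)

`E2 a b` : the natural numbers `a`, `b` have the same 2-part.
-/

set_option autoImplicit false

namespace Cfsg.Agent.H311.K547

open Nat

/-- the 2-parts agree -/
def E2 (a b : ℕ) : Prop := ∃ u v : ℕ, Odd u ∧ Odd v ∧ a * u = b * v

theorem E2.refl (a : ℕ) : E2 a a := ⟨1, 1, odd_one, odd_one, rfl⟩

theorem E2.symm {a b : ℕ} (h : E2 a b) : E2 b a := by
  obtain ⟨u, v, hu, hv, h⟩ := h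
  exact ⟨v, u, hv, hu, h.symm⟩

theorem E2.trans {a b c : ℕ} (h : E2 a b) (h' : E2 b c) : E2 a c := by
  obtain ⟨u, v, hu, hv, h⟩ := h
  obtain ⟨u', v', hu', hv', h'⟩ := h'
  refine ⟨u * u', v * v', hu.mul hu', hv.mul hv', ?_⟩
  calc a * (u * u') = (a * u) * u' := by ring
    _ = (b * u') * v := by rw [h]; ring
    _ = c * (v * v') := by rw [h']; ring

theorem E2.mul {a b c d : ℕ} (h : E2 a b) (h' : E2 c d) : E2 (a * c) (b * d) := by
  obtain ⟨u, v, hu, hv, h⟩ := h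
  obtain ⟨u', v', hu', hv', h'⟩ := h'
  refine ⟨u * u', v * v', hu.mul hu', hv.mul hv', ?_⟩
  calc a * c * (u * u') = (a * u) * (c * u') := by ring
    _ = (b * v) * (d * v') := by rw [h, h']
    _ = _ := by ring

theorem E2.mul_odd {a u : ℕ} (hu : Odd u) : E2 (a * u) a := ⟨1, u, odd_one, hu, by ring⟩

theorem E2.odd_mul {a u : ℕ} (hu : Odd u) : E2 (u * a) a := ⟨1, u, odd_one, hu, by ring⟩

theorem E2.prod {ι : Type*} {s : Finset ι} {f g : ι → ℕ} (h : ∀ i ∈ s, E2 (f i) (g i)) :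
    E2 (∏ i ∈ s, f i) (∏ i ∈ s, g i) := by
  classical
  induction s using Finset.induction_on with
  | empty => exact E2.refl _
  | insert a s ha ih =>
    rw [Finset.prod_insert ha, Finset.prod_insert ha]
    exact (h a (Finset.mem_insert_self _ _)).mul (ih fun i hi => h i (Finset.mem_insert_of_mem hi))

theorem E2.odd_of_mul {a b t : ℕ} (ha : b ≠ 0) (h : a = b * t) (h2 : E2 a b) : Odd t := by
  obtain ⟨u, v, hu, hv, h3⟩ := h2
  rw [h, mul_assoc] at h3
  have h4 := Nat.eq_of_mul_eq_mul_left (Nat.pos_of_ne_zero ha) h3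
  rw [← h4, Nat.odd_mul] at hv
  exact hv.1

theorem e2_of_emultiplicity {a b : ℕ} (ha : a ≠ 0) (hb : b ≠ 0)
    (h : emultiplicity (2 : ℤ) a = emultiplicity (2 : ℤ) b) : E2 a b := by
  obtain ⟨k, a', ha', rfl⟩ := Nat.exists_eq_two_pow_mul_odd ha
  obtain ⟨l, b', hb', rfl⟩ := Nat.exists_eq_two_pow_mul_odd hb
  have key : ∀ (k m : ℕ), Odd m → emultiplicity (2 : ℤ) ((2 ^ k * m : ℕ) : ℤ) = k := by
    intro k m hm
    apply emultiplicity_eq_of_dvd_of_not_dvd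
    · push_cast
      exact dvd_mul_right _ _
    · push_cast
      rw [pow_succ]
      intro h
      have h1 := (mul_dvd_mul_iff_left (pow_ne_zero k (two_ne_zero (α := ℤ)))).1 h
      have h2 : (2 : ℕ) ∣ m := by exact_mod_cast h1
      rw [← Nat.not_even_iff_odd, even_iff_two_dvd] at hm
      exact hm h2
  rw [key k a' ha', key l b' hb'] at h
  have h1 : k = l := by exact_mod_cast h
  subst h1
  exact ⟨b', a', hb', ha', by ring⟩

theorem e2_pow {x y : ℤ} (h4 : 4 ∣ x - y) (hx : ¬ 2 ∣ x) (k : ℕ) {a b : ℕ} (ha : (a : ℤ) = x ^ k - y ^ k)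
    (hb : (b : ℤ) = (x - y) * k) (ha0 : a ≠ 0) (hb0 : b ≠ 0) : E2 a b := by
  apply e2_of_emultiplicity ha0 hb0
  rw [ha, hb, emultiplicity_mul Int.prime_two]
  exact Int.two_pow_sub_pow' k h4 hx

theorem e2_pow_odd {x y : ℤ} (h2 : 2 ∣ x - y) (hx : ¬ 2 ∣ x) {k : ℕ} (hk : Odd k) {a b : ℕ}
    (ha : (a : ℤ) = x ^ k - y ^ k)
    (hb : (b : ℤ) = x - y) (ha0 : a ≠ 0) (hb0 : b ≠ 0) : E2 a b := by
  apply e2_of_emultiplicity ha0 hb0
  rw [ha, hb]
  refine emultiplicity_pow_sub_pow_of_prime Int.prime_two h2 hx fun h => ?_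
  have h3 : (2 : ℕ) ∣ k := by exact_mod_cast h
  rw [← Nat.not_even_iff_odd, even_iff_two_dvd] at hk
  exact hk h3

/-- the factors of the order of `GU_n(q)` -/
def gf (q i : ℕ) : ℕ := if Even i then q ^ (i + 1) + 1 else q ^ (i + 1) - 1

theorem gf_cast {q : ℕ} (hq : 1 ≤ q) (i : ℕ) : ((gf q i : ℕ) : ℤ) = (q : ℤ) ^ (i + 1) - (-1) ^ (i + 1) := by
  rw [gf]
  by_cases h : Even i
  · rw [if_pos h, h.add_one.neg_one_pow]
    push_cast
    ring
  · rw [if_neg h]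
    have h1 : Even (i + 1) := by
      rw [Nat.not_even_iff_odd] at h
      exact h.add_one
    rw [h1.neg_one_pow, Nat.cast_sub (Nat.one_le_pow _ _ hq)]
    push_cast
    ring

theorem gf_ne {q : ℕ} (hq : 2 ≤ q) (i : ℕ) : gf q i ≠ 0 := by
  rw [gf]
  split_ifs
  · omega
  · have := Nat.one_lt_pow (n := i + 1) (by omega) (show 1 < q by omega)
    omega

theorem odd_int {q : ℕ} (hq : Odd q) : ¬ (2 : ℤ) ∣ q := by
  intro h
  have h1 : (2 : ℕ) ∣ q := by exact_mod_cast h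
  rw [← Nat.not_even_iff_odd, even_iff_two_dvd] at hq
  exact hq h1

/-- `4 ∣ q + 1` -/
theorem e2_one {q : ℕ} (hq : 2 ≤ q) (h4 : 4 ∣ q + 1) (n : ℕ) :
    E2 (∏ i ∈ Finset.range n, gf q i) ((q + 1) ^ n * n !) := by
  have hodd : Odd q := by
    rw [Nat.odd_iff]
    omega
  have h1 : (q + 1) ^ n * n ! = ∏ i ∈ Finset.range n, ((q + 1) * (i + 1)) := by
    rw [Finset.prod_mul_distrib, Finset.prod_const, Finset.card_range, Finset.prod_range_add_one_eq_factorial]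
  rw [h1]
  refine E2.prod fun i _ => ?_
  refine e2_pow (x := q) (y := -1) ?_ (odd_int hodd) (i + 1) (gf_cast (by omega) i) ?_ (gf_ne hq i) ?_
  · rw [sub_neg_eq_add]
    exact_mod_cast h4
  · push_cast
    ring
  · exact Nat.mul_ne_zero (by omega) (by omega)

/-- `4 ∣ q - 1` -/
theorem e2_two {q : ℕ} (hq : 2 ≤ q) (h4 : q % 4 = 1) (m : ℕ) :
    E2 (∏ i ∈ Finset.range (2 * m), gf q i) ((q ^ 2 - 1) ^ m * (2 ^ m * m !)) ∧
    E2 (∏ i ∈ Finset.range (2 * m + 1), gf q i) ((q ^ 2 - 1) ^ m * (q + 1) * (2 ^ m * m !)) := by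
  have hodd : Odd q := by
    rw [Nat.odd_iff]
    omega
  have hq1 : 1 ≤ q ^ 2 := Nat.one_le_pow _ _ (by omega)
  have hsq : 4 ≤ q ^ 2 := by
    calc 4 = 2 ^ 2 := by norm_num
      _ ≤ q ^ 2 := Nat.pow_le_pow_left hq 2
  have he : ∀ j, E2 (gf q (2 * j)) (q + 1) := by
    intro j
    refine e2_pow_odd (x := q) (y := -1) ?_ (odd_int hodd) (k := 2 * j + 1) ⟨j, rfl⟩
      (gf_cast (by omega) (2 * j)) ?_ (gf_ne hq _) (by omega)
    · rw [sub_neg_eq_add]
      have : 2 ∣ q + 1 := by omega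
      exact_mod_cast this
    · push_cast
      ring
  have ho : ∀ j, E2 (gf q (2 * j + 1)) ((q ^ 2 - 1) * (j + 1)) := by
    intro j
    refine e2_pow (x := (q : ℤ) ^ 2) (y := 1) ?_ ?_ (j + 1) ?_ ?_ (gf_ne hq _) ?_
    · have h1 : (4 : ℤ) ∣ q - 1 := by
        have h2 : 4 ∣ q - 1 := by omega
        have h3 : ((q - 1 : ℕ) : ℤ) = q - 1 := by rw [Nat.cast_sub (by omega)]; simp
        rw [← h3]
        exact_mod_cast h2
      obtain ⟨c, hc⟩ := h1
      exact ⟨c * (q + 1), by linear_combination (q + 1 : ℤ) * hc⟩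
    · intro h
      exact odd_int hodd (Int.prime_two.dvd_of_dvd_pow h)
    · rw [gf_cast (by omega), one_pow, ← pow_mul, show 2 * (j + 1) = 2 * j + 1 + 1 by ring]
      have : Even (2 * j + 1 + 1) := ⟨j + 1, by ring⟩
      rw [this.neg_one_pow]
    · rw [Nat.cast_mul, Nat.cast_sub hq1]
      push_cast
      ring
    · exact Nat.mul_ne_zero (by omega) (by omega)
  have h2 : E2 (q + 1) 2 := by
    obtain ⟨c, hc⟩ : ∃ c, q = 4 * c + 1 := ⟨q / 4, by omega⟩
    refine ⟨1, 2 * c + 1, odd_one, ⟨c, rfl⟩, ?_⟩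
    rw [hc]; ring
  have hmain : E2 (∏ i ∈ Finset.range (2 * m), gf q i) ((q ^ 2 - 1) ^ m * (2 ^ m * m !)) := by
    induction m with
    | zero => simpa using E2.refl 1
    | succ m ih =>
      have e1 : ∏ i ∈ Finset.range (2 * (m + 1)), gf q i =
          (∏ i ∈ Finset.range (2 * m), gf q i) * (gf q (2 * m) * gf q (2 * m + 1)) := by
        rw [show 2 * (m + 1) = 2 * m + 1 + 1 by ring, Finset.prod_range_succ, Finset.prod_range_succ]
        ring
      have e2 : (q ^ 2 - 1) ^ (m + 1) * (2 ^ (m + 1) * (m + 1)!) =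
          ((q ^ 2 - 1) ^ m * (2 ^ m * m !)) * (2 * ((q ^ 2 - 1) * (m + 1))) := by
        rw [Nat.factorial_succ]
        ring
      rw [e1, e2]
      exact ih.mul (((he m).trans h2).mul (ho m))
  refine ⟨hmain, ?_⟩
  rw [Finset.prod_range_succ]
  have e3 : (q ^ 2 - 1) ^ m * (q + 1) * (2 ^ m * m !) = ((q ^ 2 - 1) ^ m * (2 ^ m * m !)) * (q + 1) := by ring
  rw [e3]
  exact hmain.mul (he m)

end Cfsg.Agent.H311.K547
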